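import Cfsg.Agent.Lib.H17.HSM.Model.Tabs

set_option autoImplicit false
set_option maxRecDepth 100000

/-! # The monomial model: word checks (generated) -/

namespace Cfsg.Agent.Lib.H17.HSM.Model

open Cfsg.Agent.Lib.H17.MonoModel

theorem wchk24 : checkWordM (List.map tabs [3, 0, 2, 0, 4, 2, 0, 3, 4, 0, 3, 0, 2, 0, 4, 2, 0, 3, 4, 0]) 0 5600 = true := by
  decide +kernel

theorem wchk25 : checkWordM (List.map tabs [3, 0, 2, 0, 3, 4, 3, 4, 0, 4, 3, 4, 3, 4, 3, 4, 0, 4, 3, 4, 0]) 6 5600 = true := by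
  decide +kernel

theorem wchk26 : checkWordM (List.map tabs [3, 3, 3, 0, 4, 2, 0, 3, 4, 0, 3, 0, 2, 0, 4, 2, 0, 3, 4, 0, 3, 0]) 0 5600 = true := by
  decide +kernel

theorem wchk27 : checkWordM (List.map tabs [3, 3, 3, 0, 3, 0, 2, 0, 4, 2, 4, 0, 4, 2, 4, 2, 4, 2, 4, 0, 4, 2, 4]) 6 5600 = true := by
  decide +kernel

theorem wchk28 : checkWordM (List.map tabs [3, 4, 3, 4, 2, 4, 3, 4, 3, 4, 2, 4, 2, 4, 3, 4, 2, 4, 2, 4]) 6 5600 = true := by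
  decide +kernel

theorem wchk29 : checkWordM (List.map tabs [3, 0, 4, 0, 2, 4, 2, 4, 3, 4, 2, 4, 0, 4, 0, 4, 3, 4, 2, 4, 3, 4]) 6 5600 = true := by
  decide +kernel

theorem wchk30 : checkWordM (List.map tabs [3, 4, 2, 0, 4, 0, 3, 4, 2, 4, 3, 4, 2, 4, 0, 4, 0, 4, 3, 4, 2, 4]) 6 5600 = true := by
  decide +kernel

theorem wchk31 : checkWordM (List.map tabs [3, 4, 2, 0, 4, 0, 4, 3, 4, 2, 4, 3, 4, 2, 0, 4, 0, 4, 3, 4, 2, 4]) 6 5600 = true := by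
  decide +kernel

theorem wchk32 : checkWordM (List.map tabs [3, 3, 4, 3, 3, 4, 3, 3, 4, 3, 4, 2, 2, 4, 2, 2, 4, 3, 3, 4, 3, 4]) 0 5600 = true := by
  decide +kernel

theorem wchk33 : checkWordM (List.map tabs [3, 3, 4, 3, 3, 4, 3, 3, 4, 3, 4, 2, 2, 4, 2, 2, 4, 2, 2, 4, 3, 4]) 0 5600 = true := by
  decide +kernel

theorem wchk34 : checkWordM (List.map tabs [3, 3, 4, 3, 3, 4, 3, 3, 4, 2, 4, 2, 2, 4, 2, 2, 4, 3, 3, 4, 2, 4]) 0 5600 = true := by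
  decide +kernel

theorem wchk35 : checkWordM (List.map tabs [3, 3, 3, 4, 2, 2, 4, 2, 2, 4, 2, 2, 4, 2, 4, 3, 3, 4, 3, 3, 4, 3, 3, 4]) 0 5600 = true := by
  decide +kernel

end Cfsg.Agent.Lib.H17.HSM.Model
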