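import Cfsg.Agent.Lib.H17.HSM.Model.ChkA
import Cfsg.Agent.Lib.H17.HSM.Model.ChkB
import Cfsg.Agent.Lib.H17.HSM.Model.ChkC
import Cfsg.Agent.Lib.H17.HSM.Model.ChkD
import Cfsg.Agent.Lib.H17.HSM.Model.ChkE
import Cfsg.Agent.Lib.H17.HSM.Cert.Lists

set_option autoImplicit false
set_option maxRecDepth 100000

/-! # The monomial model: summary (generated) -/

namespace Cfsg.Agent.Lib.H17.HSM.Model

open Cfsg.Agent.Lib.H17.MonoModel Cfsg.Agent.Lib.H17.HSM

theorem range_ok : Range tabs 5600 := by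
  intro x p hp
  by_cases hx : x < 6
  · interval_cases x
    · exact checkRangeM_sound _ _ _ range0 p hp
    · exact checkRangeM_sound _ _ _ range1 p hp
    · exact checkRangeM_sound _ _ _ range2 p hp
    · exact checkRangeM_sound _ _ _ range3 p hp
    · exact checkRangeM_sound _ _ _ range4 p hp
    · exact checkRangeM_sound _ _ _ range5 p hp
  · have : tabs x = 0 := by
      unfold tabs
      split <;> first | omega | rfl
    rw [this]
    have : lkM 0 p = 0 := by unfold lkM; simp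
    rw [this]; norm_num

theorem pairs_ok : PairsOK tabs 5600 := by
  intro x hx
  interval_cases x
  · exact wchk6
  · exact wchk7
  · exact wchk8
  · exact wchk9
  · exact wchk10
  · exact wchk11

theorem exact_chk : ∀ w ∈ Cert.exactL, checkWordM (w.map tabs) 0 5600 = true := by
  intro w hw
  simp only [Cert.exactL, List.mem_cons, List.not_mem_nil, or_false] at hw
  rcases hw with rfl | rfl | rfl | rfl | rfl | rfl
  · exact wchk0
  · exact wchk1
  · exact wchk2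
  · exact wchk3
  · exact wchk4
  · exact wchk5

theorem central_chk : ∀ w ∈ Cert.symL ++ Cert.cenL, ∃ e, checkWordM (w.map tabs) e 5600 = true := by
  intro w hw
  simp only [Cert.symL, Cert.cenL, List.cons_append, List.nil_append, List.mem_cons, List.not_mem_nil, or_false] at hw
  rcases hw with rfl | rfl | rfl | rfl | rfl | rfl | rfl | rfl | rfl | rfl | rfl | rfl | rfl | rfl | rfl | rfl | rfl | rfl | rfl | rfl | rfl | rfl | rfl | rfl | rfl | rfl | rfl | rfl | rfl | rfl | rfl | rfl | rfl | rfl | rfl | rfl | rfl | rfl | rfl | rfl | rfl | rfl | rfl | rfl | rfl | rfl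
  · exact ⟨_, wchk12⟩
  · exact ⟨_, wchk13⟩
  · exact ⟨_, wchk14⟩
  · exact ⟨_, wchk15⟩
  · exact ⟨_, wchk16⟩
  · exact ⟨_, wchk17⟩
  · exact ⟨_, wchk18⟩
  · exact ⟨_, wchk19⟩
  · exact ⟨_, wchk20⟩
  · exact ⟨_, wchk21⟩
  · exact ⟨_, wchk22⟩
  · exact ⟨_, wchk23⟩
  · exact ⟨_, wchk24⟩
  · exact ⟨_, wchk25⟩
  · exact ⟨_, wchk26⟩
  · exact ⟨_, wchk27⟩
  · exact ⟨_, wchk28⟩
  · exact ⟨_, wchk29⟩
  · exact ⟨_, wchk30⟩
  · exact ⟨_, wchk31⟩
  · exact ⟨_, wchk32⟩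
  · exact ⟨_, wchk33⟩
  · exact ⟨_, wchk34⟩
  · exact ⟨_, wchk35⟩
  · exact ⟨_, wchk36⟩
  · exact ⟨_, wchk37⟩
  · exact ⟨_, wchk38⟩
  · exact ⟨_, wchk39⟩
  · exact ⟨_, wchk40⟩
  · exact ⟨_, wchk41⟩
  · exact ⟨_, wchk42⟩
  · exact ⟨_, wchk43⟩
  · exact ⟨_, wchk44⟩
  · exact ⟨_, wchk45⟩
  · exact ⟨_, wchk46⟩
  · exact ⟨_, wchk47⟩
  · exact ⟨_, wchk48⟩
  · exact ⟨_, wchk49⟩
  · exact ⟨_, wchk50⟩
  · exact ⟨_, wchk51⟩
  · exact ⟨_, wchk52⟩
  · exact ⟨_, wchk53⟩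
  · exact ⟨_, wchk54⟩
  · exact ⟨_, wchk55⟩
  · exact ⟨_, wchk56⟩
  · exact ⟨_, wchk57⟩

theorem sym0_chk : checkWordM (List.map tabs [4, 4]) 6 5600 = true := wchk12

theorem letters_lt : ∀ w ∈ Cert.exactL ++ Cert.symL ++ Cert.cenL, ∀ x ∈ w, x < 6 := by
  decide

end Cfsg.Agent.Lib.H17.HSM.Model
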