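import Cfsg.Agent.Lib.H17.HSM.Model.Tabs

set_option autoImplicit false
set_option maxRecDepth 100000

/-! # The monomial model: word checks (generated) -/

namespace Cfsg.Agent.Lib.H17.HSM.Model

open Cfsg.Agent.Lib.H17.MonoModel

theorem wchk0 : checkWordM (List.map tabs [0, 0]) 0 5600 = true := by
  decide +kernel

theorem wchk1 : checkWordM (List.map tabs [2, 2, 2, 2]) 0 5600 = true := by
  decide +kernel

theorem wchk2 : checkWordM (List.map tabs [0, 2, 0, 2, 0, 2, 0, 2, 0, 2, 0, 2, 0, 2, 0, 2, 0, 2, 0, 2, 0, 2]) 0 5600 = true := by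
  decide +kernel

theorem wchk3 : checkWordM (List.map tabs [0, 2, 2, 0, 2, 2, 0, 2, 2, 0, 2, 2, 0, 2, 2, 0, 2, 2]) 0 5600 = true := by
  decide +kernel

theorem wchk4 : checkWordM (List.map tabs [0, 2, 0, 2, 0, 3, 0, 2, 0, 2, 2, 0, 3, 0, 2, 0, 3, 0, 3]) 0 5600 = true := by
  decide +kernel

theorem wchk5 : checkWordM (List.map tabs [3, 3, 4, 0, 5, 2, 0, 2, 4, 0, 3, 5, 2, 0, 4, 2, 0, 2, 0, 2, 0, 5, 2, 4]) 0 5600 = true := by
  decide +kernel

theorem wchk6 : checkWordM (List.map tabs [0, 1]) 0 5600 = true := by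
  decide +kernel

theorem wchk7 : checkWordM (List.map tabs [1, 0]) 0 5600 = true := by
  decide +kernel

theorem wchk8 : checkWordM (List.map tabs [2, 3]) 0 5600 = true := by
  decide +kernel

theorem wchk9 : checkWordM (List.map tabs [3, 2]) 0 5600 = true := by
  decide +kernel

theorem wchk10 : checkWordM (List.map tabs [4, 5]) 0 5600 = true := by
  decide +kernel

theorem wchk11 : checkWordM (List.map tabs [5, 4]) 0 5600 = true := by
  decide +kernel

end Cfsg.Agent.Lib.H17.HSM.Model
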